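import Cfsg.Agent.Transfer.Hall
import Cfsg.Agent.Solv.Frattini

/-!
Tate's theorem (helper14): if `N ⊴ G` has `O^p(N) = N` and `V = N ⊓ P` then `V ⊓ Φ(P) ≤ [V, P] Φ(V)`
(`mem_of_mem_frattini`); hence `N ⊓ P ≤ Φ(P)` forces a normal `p`-complement in `N`
(`hasNormalPComplement_of_inf_le_frattini`, `hasNormalPComplement_of_pResidual_inf_le`).
-/

set_option autoImplicit false

namespace Cfsg.Agent.FTC

open Subgroup

variable {G : Type*} [Group G] [Finite G] {p : ℕ} [hp : Fact p.Prime]

theorem mem_of_mem_frattini (P : Sylow p G) (N : Subgroup G) [N.Normal] (hN : pResidual p N = ⊤)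
    {W : Subgroup G} (hWN : W ≤ N) (hc : ∀ v ∈ N, v ∈ P → ∀ x ∈ P, v * x * v⁻¹ * x⁻¹ ∈ W)
    (hpow : ∀ v ∈ N, v ∈ P → v ^ p ∈ W) (hPW : (P : Subgroup G) ≤ normalizer (W : Set G))
    {v : P} (hvN : (v : G) ∈ N) (hv : v ∈ frattini P) : (v : G) ∈ W := by
  let W' := W.subgroupOf P
  haveI : W'.Normal := ⟨fun w hw g => (mem_normalizer_iff.1 (hPW g.2) w).1 hw⟩
  let Q := P ⧸ W'
  let ρ : Q →* G ⧸ N := QuotientGroup.lift W' ((QuotientGroup.mk' N).comp (P : Subgroup G).subtype)
    fun w hw => (QuotientGroup.eq_one_iff _).2 (hWN hw)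
  have hA : ∀ a ∈ ρ.ker, ∃ u : P, (u : G) ∈ N ∧ (u : Q) = a := fun a ha => by
    induction a using QuotientGroup.induction_on with
    | H u => exact ⟨u, (QuotientGroup.eq_one_iff _).1 ha, rfl⟩
  have hcen : ∀ a ∈ ρ.ker, ∀ q : Q, a * q = q * a := fun a ha q => by
    obtain ⟨u, hu, rfl⟩ := hA a ha
    induction q using QuotientGroup.induction_on with
    | H x =>
    rw [← QuotientGroup.mk_mul, ← QuotientGroup.mk_mul, QuotientGroup.eq_iff_div_mem]
    have := hc u hu u.2 x x.2
    change (u : G) * x / (x * u) ∈ W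
    simpa [div_eq_mul_inv, mul_assoc] using this
  letI : CommGroup ρ.ker := { (inferInstance : Group ρ.ker) with
    mul_comm := fun a b => Subtype.ext (hcen _ a.2 _) }
  have hAp : ∀ a : ρ.ker, a ^ p = 1 := fun a => by
    obtain ⟨u, hu, e⟩ := hA a a.2
    apply Subtype.ext
    rw [coe_pow, ← e, ← QuotientGroup.mk_pow]
    exact (QuotientGroup.eq_one_iff _).2 (hpow u hu u.2)
  let E : Subgroup (G × Q) := MonoidHom.eqLocus ((QuotientGroup.mk' N).comp (MonoidHom.fst G Q))
    (ρ.comp (MonoidHom.snd G Q))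
  let π : E →* G := (MonoidHom.fst G Q).comp E.subtype
  let H : Subgroup E := (P : Subgroup G).comap π
  let δ : P →* E := MonoidHom.codRestrict (((P : Subgroup G).subtype).prod (QuotientGroup.mk' W')) E fun x => rfl
  have hH : ¬ p ∣ H.index := by
    rw [index_comap]
    intro h
    have h1 : (P : Subgroup G) ≤ π.range := fun x hx => ⟨δ ⟨x, hx⟩, rfl⟩
    exact P.not_dvd_index (h.trans (Dvd.intro _ (relIndex_mul_index h1)))
  have hmem : ∀ e : H, (e : E).1.2 * (((⟨(e : E).1.1, e.2⟩ : P) : Q))⁻¹ ∈ ρ.ker := fun e => by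
    rw [MonoidHom.mem_ker, map_mul, map_inv, mul_inv_eq_one]
    exact (e : E).2.symm
  let l : H →* ρ.ker := MonoidHom.mk' (fun e => ⟨_, hmem e⟩) fun a b => Subtype.ext (by
    have := hcen _ (hmem b) (((⟨(a : E).1.1, a.2⟩ : P) : Q))⁻¹
    change (a : E).1.2 * (b : E).1.2 * (((⟨(a : E).1.1, a.2⟩ * ⟨(b : E).1.1, b.2⟩ : P) : Q))⁻¹ = _
    rw [coe_mul, QuotientGroup.mk_mul, mul_inv_rev, mul_assoc, mul_assoc, ← this]
    group)
  let τ : E →* ρ.ker := MonoidHom.transfer l
  let ι : N →* E := MonoidHom.codRestrict ((MonoidHom.inl G Q).comp N.subtype) E fun n => by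
    change ((n : G) : G ⧸ N) = ρ 1
    rw [map_one]; exact (QuotientGroup.eq_one_iff _).2 n.2
  have hι : ∀ n, τ (ι n) = 1 := fun n =>
    Transfer.pResidual_le_ker (fun a => ⟨1, by rw [pow_one, hAp]⟩) (τ.comp ι) (hN ▸ mem_top n)
  have h1 : τ (δ v) = 1 := by
    have : frattini P ≤ (τ.comp δ).ker := (Solv.frattini_le_iff P.isPGroup').2
      ⟨Abelianization.commutator_subset_ker _, fun x => by rw [MonoidHom.mem_ker, map_pow, hAp]⟩
    exact this hv
  have hva : (v : Q) ∈ ρ.ker := (QuotientGroup.eq_one_iff (v : G)).2 hvN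
  let e : E := ⟨(1, (v : Q)), by
    change ((1 : G) : G ⧸ N) = ρ v
    exact (MonoidHom.mem_ker.1 hva).symm⟩
  have he : ∀ g : E, Commute e g := fun g => Subtype.ext (Prod.ext (by simp [e]) (hcen _ hva _))
  have h2 : δ v = ι ⟨v, hvN⟩ * e := Subtype.ext (Prod.ext (mul_one (v : G)).symm (one_mul (v : Q)).symm)
  rw [h2, map_mul, hι, one_mul] at h1
  have h3 := MonoidHom.transfer_eq_pow l e fun k g _ => by
    rw [mul_assoc, ((he g).pow_left k).eq, inv_mul_cancel_left]
  have h4 : (v : Q) ^ H.index = 1 := by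
    have h5 := congrArg Subtype.val (h3.symm.trans h1)
    have h6 : ∀ h, ((⟨(e ^ H.index : E).1.1, h⟩ : P) : Q) = 1 := fun h => by
      have : (⟨(e ^ H.index : E).1.1, h⟩ : P) = 1 := Subtype.ext (by simp [e])
      rw [this]; rfl
    change (e ^ H.index : E).1.2 * ((⟨(e ^ H.index : E).1.1, _⟩ : P) : Q)⁻¹ = 1 at h5
    have h7 := (mul_inv_eq_one.1 h5).trans (h6 _)
    simpa [e] using h7
  have h5 : (v : Q) ^ p = 1 := congrArg Subtype.val (hAp ⟨_, hva⟩)
  have h6 : (v : Q) = 1 := by
    rw [← orderOf_eq_one_iff, ← Nat.dvd_one, ← (Nat.Prime.coprime_iff_not_dvd hp.out).2 hH]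
    exact Nat.dvd_gcd (orderOf_dvd_of_pow_eq_one h5) (orderOf_dvd_of_pow_eq_one h4)
  exact (QuotientGroup.eq_one_iff (N := W') _).1 h6

theorem inf_eq_bot_of_le_frattini (P : Sylow p G) (N : Subgroup G) [N.Normal] (hN : pResidual p N = ⊤)
    (h : N ⊓ (P : Subgroup G) ≤ (frattini P).map (P : Subgroup G).subtype) : N ⊓ (P : Subgroup G) = ⊥ := by
  set V := N ⊓ (P : Subgroup G) with hV
  have hVp : IsPGroup p V := P.isPGroup'.to_le inf_le_right
  have hPV : (P : Subgroup G) ≤ normalizer (V : Set G) :=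
    fun x hx => inf_normalizer_le_normalizer_inf ⟨by simp [normalizer_eq_top], le_normalizer hx⟩
  have hPF := Solv.le_normalizer_map_of_characteristic hPV (frattini V)
  have h1 : V ≤ ⁅V, (P : Subgroup G)⁆ ⊔ (frattini V).map V.subtype := by
    intro v hv
    obtain ⟨u, hu, rfl⟩ := h hv
    refine mem_of_mem_frattini P N hN (sup_le ((Solv.commutator_le_of_le_normalizer hPV).trans inf_le_left)
      ((map_subtype_le _).trans inf_le_left)) (fun v h1 h2 x hx => mem_sup_left ?_)
      (fun v h1 h2 => mem_sup_right (Solv.pow_mem_map_frattini hVp ⟨h1, h2⟩)) ?_ hv.1 hu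
    · exact commutator_mem_commutator (show v ∈ V from ⟨h1, h2⟩) hx
    · exact Solv.le_normalizer_sup (Solv.le_normalizer_commutator hPV le_normalizer) hPF
  haveI := P.isPGroup'.isNilpotent
  have h2 := Transfer.le_of_le_commutator_sup inf_le_right hPF h1
  exact (Solv.eq_of_sup_map_frattini bot_le (by rwa [bot_sup_eq])).symm

/-- Huppert IV.4.7: a normal subgroup meeting `P` inside `Φ(P)` has a normal `p`-complement. -/
theorem hasNormalPComplement_of_inf_le_frattini (P : Sylow p G) (N : Subgroup G) [N.Normal]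
    (h : N ⊓ (P : Subgroup G) ≤ (frattini P).map (P : Subgroup G).subtype) : HasNormalPComplement p N := by
  haveI := Transfer.pResidual_characteristic p N
  let K := (pResidual p N).map N.subtype
  have hK : pResidual p K = ⊤ := by
    have := Transfer.map_pResidual_equiv (p := p) ((pResidual p N).equivMapOfInjective _ N.subtype_injective)
    rw [← this, Transfer.pResidual_pResidual, map_top_of_surjective _ (MulEquiv.surjective _)]
  have h1 := inf_eq_bot_of_le_frattini P K hK ((inf_le_inf_right _ (map_subtype_le _)).trans h)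
  rw [Transfer.inf_sylow_eq_bot_iff, card_map_of_injective N.subtype_injective] at h1
  exact Transfer.hasNormalPComplement_iff_coprime_card_pResidual.2 h1

/-- Tate's normal `p`-complement theorem. -/
theorem hasNormalPComplement_of_pResidual_inf_le (P : Sylow p G)
    (h : pResidual p G ⊓ (P : Subgroup G) ≤ (frattini P).map (P : Subgroup G).subtype) :
    HasNormalPComplement p G :=
  haveI := Transfer.pResidual_normal p G
  (Transfer.hasNormalPComplement_iff_pResidual_inf_eq_bot P).2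
    (inf_eq_bot_of_le_frattini P _ Transfer.pResidual_pResidual h)

/-- Tate's theorem, focal form. -/
theorem hasNormalPComplement_of_fusion_frattini (P : Sylow p G)
    (h : ∀ x ∈ (P : Subgroup G), ∀ g : G, g * x * g⁻¹ ∈ (P : Subgroup G) →
      x⁻¹ * (g * x * g⁻¹) ∈ (frattini P).map (P : Subgroup G).subtype) : HasNormalPComplement p G :=
  hasNormalPComplement_of_pResidual_inf_le P (by
    rw [inf_comm]
    exact Transfer.sylow_inf_pResidual_le P fun x hx g _ hg => h x hx.1 g hg)

end Cfsg.Agent.FTC
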