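import Cfsg.Agent.FTC.Aniso
import Cfsg.Agent.FTC.Tate
import Cfsg.Agent.Transfer.Hol
import Cfsg.Agent.Transfer.Frobenius
import Cfsg.Agent.SolvStr.Huppert
import Cfsg.Prelude.Def_TwoFusion

/-!
`p`-groups all of whose subgroups of a fixed order are strongly closed (helper14).
`le_centralizer_of_pow_four` (a group of odd order centralizing the elements of order `≤ 4` of a `2`-group
centralizes it), `commutator_le_of_cyclic_section`, `AllSC p P d`, the `p`-nilpotency criterion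
`hasNormalPComplement_of_allSC` and the supersolvability criteria `isSupersolvable_of_pow_mem_centralizer`,
`isSupersolvable_of_allSC`.
-/

set_option autoImplicit false

namespace Cfsg.Agent.FTC

open Subgroup
open scoped Pointwise commutatorElement

universe u

variable {G : Type*} [Group G] {p : ℕ}

/-- A group of odd order acting on a `2`-group and centralizing all elements of order dividing `4` acts
trivially. -/
theorem le_centralizer_of_pow_four [Finite G] {A K : Subgroup G}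
    (hK : IsPGroup 2 K) (hA : A ≤ normalizer (K : Set G)) (hc : (Nat.card A).Coprime 2)
    (h : ∀ x ∈ K, x ^ 4 = 1 → x ∈ centralizer (A : Set G)) : K ≤ centralizer (A : Set G) := by
  haveI : Fact (Nat.Prime 2) := ⟨Nat.prime_two⟩
  induction K using WellFoundedLT.induction with
  | _ K ih =>
  have hc' : (Nat.card A).Coprime (Nat.card K) := by
    obtain ⟨n, hn⟩ := hK.exists_card_eq
    exact hn ▸ hc.pow_right n
  have ih' : ∀ L < K, A ≤ normalizer (L : Set G) → L ≤ centralizer (A : Set G) := fun L hL hAL =>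
    ih L hL (hK.to_le hL.le) hAL fun x hx => h x (hL.le hx)
  rcases (Solv.commutator_le_of_le_normalizer hA).lt_or_eq with h1 | h1
  · exact Solv.le_centralizer_of_commutator_le_centralizer hA hc'
      (ih' _ h1 (Solv.le_normalizer_commutator hA A.le_normalizer))
  rcases eq_or_ne K ⊥ with rfl | hne
  · exact bot_le
  have : Nontrivial K := (nontrivial_iff_ne_bot K).2 hne
  have hF : (frattini K).map K.subtype < K := lt_of_le_of_ne (map_subtype_le _) fun e =>
    Solv.frattini_ne_top (map_injective K.subtype_injective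
      (e.trans (by rw [← MonoidHom.range_eq_map, range_subtype])))
  have hFA := ih' _ hF (Solv.le_normalizer_map_of_characteristic hA _)
  have hFK := Transfer.le_centralizer_of_commutator_eq h1 (Solv.le_normalizer_map_subtype K _) hFA
  have hd := Solv.commutator_le_map_frattini hK
  have hcm : ∀ x ∈ K, ∀ y ∈ K, ∀ z ∈ K, Commute ⁅x, y⁆ z := fun x hx y hy z hz =>
    hFK hz _ (hd (commutator_mem_commutator hx hy))
  have hc2 : ∀ x ∈ K, ∀ y ∈ K, ⁅x, y⁆ ^ 2 = 1 := fun x hx y hy => by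
    rw [← PGrp.commutator_pow_left (hcm x hx y hy x hx), commutatorElement_eq_one_iff_commute]
    exact hFK hy _ (Solv.pow_mem_map_frattini hK hx)
  have hm : ∀ x ∈ K, ∀ y ∈ K, (x * y) ^ 4 = x ^ 4 * y ^ 4 := fun x hx y hy => by
    rw [PGrp.mul_pow_of_commute_commutator (hcm y hy x hx x hx) (hcm y hy x hx y hy),
      show Nat.choose 4 2 = 2 * 3 from rfl, pow_mul, hc2 y hy x hx, one_pow, one_mul]
  let L : Subgroup G :=
    { carrier := {x | x ∈ K ∧ x ^ 4 = 1}
      mul_mem' := fun {x y} hx hy => ⟨K.mul_mem hx.1 hy.1, by rw [hm x hx.1 y hy.1, hx.2, hy.2, one_mul]⟩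
      one_mem' := ⟨K.one_mem, one_pow _⟩
      inv_mem' := fun {x} hx => ⟨K.inv_mem hx.1, by rw [inv_pow, hx.2, inv_one]⟩ }
  have hL : ⁅K, A⁆ ≤ L := commutator_le.2 fun x hx a ha => by
    have h3 := Solv.conj_mem_of_le_normalizer hA ha (inv_mem hx)
    rw [commutatorElement_def, mul_assoc, mul_assoc, ← mul_assoc a]
    refine ⟨mul_mem hx h3, ?_⟩
    have h4 : x ^ 4 ∈ (frattini K).map K.subtype := by
      rw [show 4 = 2 * 2 from rfl, pow_mul]
      exact pow_mem (Solv.pow_mem_map_frattini hK hx) 2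
    rw [hm x hx _ h3, conj_pow, inv_pow, hFA (inv_mem h4) a ha]
    group
  intro g hg
  exact h g hg (hL (h1.ge hg)).2

/-- Action on a cyclic section. -/
theorem commutator_le_of_cyclic_section [Finite G] {A B Y Y0 : Subgroup G} {u : G} (hAB : A ≤ B)
    (hBA : B ≤ normalizer (A : Set G)) (hYA : Y ≤ normalizer (A : Set G)) (hYB : Y ≤ normalizer (B : Set G))
    (hu : u ∈ B) (hB : B ≤ A ⊔ zpowers u) (h0 : Y0 ≤ Y)
    (hk : ∀ f : Y →* (ZMod (A.relIndex B))ˣ, Y0.subgroupOf Y ≤ f.ker) : ⁅B, Y0⁆ ≤ A := by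
  haveI : (A.subgroupOf B).Normal := (normal_subgroupOf_iff_le_normalizer hAB).2 hBA
  let f1 : Y →* MulAut B := resAut (MulAut.conj.comp Y.subtype) B fun y x hx =>
    Solv.conj_mem_of_le_normalizer hYB y.2 hx
  let f2 : Y →* MulAut (B ⧸ A.subgroupOf B) := quoAut f1 _ fun y x hx =>
    Solv.conj_mem_of_le_normalizer hYA y.2 hx
  haveI hc : IsCyclic (B ⧸ A.subgroupOf B) := ⟨⟨((⟨u, hu⟩ : B) : B ⧸ A.subgroupOf B), fun q => by
    induction q using QuotientGroup.induction_on with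
    | H b =>
    obtain ⟨a, ha, i, e⟩ := (PGrp.mem_sup_zpowers (hBA hu)).1 (hB b.2)
    refine ⟨i, ?_⟩
    change ((⟨u, hu⟩ : B) : B ⧸ A.subgroupOf B) ^ i = b
    rw [← QuotientGroup.mk_zpow, eq_comm, QuotientGroup.eq_iff_div_mem]
    change (b : G) / u ^ i ∈ A
    rwa [← e, mul_div_cancel_right]⟩⟩
  refine commutator_le.2 fun b hb y hy => ?_
  have h1 : hc.mulAutMulEquiv _ (f2 ⟨y, h0 hy⟩) = 1 :=
    hk ((hc.mulAutMulEquiv _).toMonoidHom.comp f2) (show (⟨y, h0 hy⟩ : Y) ∈ Y0.subgroupOf Y from hy)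
  rw [MulEquiv.map_eq_one_iff] at h1
  have h2 : f2 ⟨y, h0 hy⟩ ((⟨b, hb⟩ : B) : B ⧸ A.subgroupOf B) = (⟨b, hb⟩ : B) := by rw [h1]; rfl
  have h3 : b / (y * b * y⁻¹) ∈ A := (QuotientGroup.eq_iff_div_mem (N := A.subgroupOf B)).1 h2.symm
  simpa [commutatorElement_def, div_eq_mul_inv, mul_assoc] using h3

theorem exists_between [Finite G] [Fact p.Prime] {A B : Subgroup G} (hB : IsPGroup p B) (hAB : A ≤ B) {e : ℕ}
    (h1 : Nat.card A ≤ p ^ e) (h2 : p ^ e ≤ Nat.card B) : ∃ E, A ≤ E ∧ E ≤ B ∧ Nat.card E = p ^ e := by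
  have hp : 1 < p := (Fact.out : p.Prime).one_lt
  obtain ⟨a, ha⟩ := (hB.to_le hAB).exists_card_eq
  obtain ⟨b, hb⟩ := hB.exists_card_eq
  rw [ha, Nat.pow_le_pow_iff_right hp] at h1
  rw [hb, Nat.pow_le_pow_iff_right hp] at h2
  obtain ⟨K, hK, hAK⟩ := Sylow.exists_subgroup_card_pow_prime_le (G := B) p (hb ▸ pow_dvd_pow p h2)
    (A.subgroupOf B) (by rw [Solv.card_subgroupOf hAB, ha]) h1
  exact ⟨K.map B.subtype, fun x hx => ⟨⟨x, hAB hx⟩, hAK hx, rfl⟩, map_subtype_le _,
    by rw [card_map_of_injective B.subtype_injective, hK]⟩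

theorem le_normalizer_inf_of_sc [Finite G] {F P Q : Subgroup G} (h : IsStronglyClosed F P) (hQ : Q ≤ P) :
    normalizer (Q : Set G) ≤ normalizer ((F ⊓ Q : Subgroup G) : Set G) := fun g hg =>
  Transfer.mem_normalizer_of_conj_smul_le (Transfer.conj_smul_le_iff.2 fun x hx =>
    have h1 := (mem_normalizer_iff.1 hg x).1 hx.2
    ⟨h.2 x hx.1 g (hQ h1), h1⟩)

theorem isStronglyClosed_of_H [Finite G] [Fact p.Prime] {F P : Subgroup G} (hP : IsPGroup p P) (hF : F ≤ P)
    (h : ∀ g : G, F.map (MulAut.conj g).toMonoidHom ⊓ normalizer (F : Set G) ≤ F) : IsStronglyClosed F P := by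
  have h1 : P ≤ normalizer (F : Set G) := by
    by_contra h1
    have h2 : P ⊓ normalizer (F : Set G) < P := lt_of_le_of_ne inf_le_left fun e => h1 (inf_eq_left.1 e)
    obtain ⟨g, hg, hg'⟩ := SetLike.exists_of_lt (Transfer.lt_inf_normalizer_of_isPGroup hP h2)
    refine hg' ⟨hg.1, Transfer.mem_normalizer_of_conj_smul_le (Transfer.conj_smul_le_iff.2 fun x hx => ?_)⟩
    exact h g ⟨⟨x, hx, rfl⟩, ((mem_normalizer_iff.1 hg.2 x).1 ⟨hF hx, le_normalizer hx⟩).2⟩
  exact ⟨hF, fun x hx g hg => h g ⟨⟨x, hx, rfl⟩, h1 hg⟩⟩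

/-- All subgroups of `P` of order `p ^ e` (and of order `4` if `p ^ e = 2`) are strongly closed. -/
structure AllSC (p : ℕ) (P : Subgroup G) (e : ℕ) : Prop where
  pgrp : IsPGroup p P
  pos : 0 < e
  lt : p ^ e < Nat.card P
  sc : ∀ F ≤ P, Nat.card F = p ^ e ∨ p ^ e = 2 ∧ Nat.card F = 4 → IsStronglyClosed F P

theorem allSC_of_H [Finite G] [Fact p.Prime] {P : Subgroup G} (hP : IsPGroup p P)
    (h : ∃ D : Subgroup G, D ≤ P ∧ 1 < Nat.card D ∧ Nat.card D < Nat.card P ∧
      ∀ E : Subgroup G, E ≤ P → (Nat.card E = Nat.card D ∨ (Nat.card D = 2 ∧ Nat.card E = 4)) →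
        ∀ g : G, E.map (MulAut.conj g).toMonoidHom ⊓ Subgroup.normalizer (E : Set G) ≤ E) : ∃ e, AllSC p P e := by
  obtain ⟨D, hD, h1, h2, h3⟩ := h
  obtain ⟨e, he⟩ := (hP.to_le hD).exists_card_eq
  rw [he] at h1 h2 h3
  exact ⟨e, hP, Nat.pos_of_ne_zero fun h => by simp [h] at h1, h2,
    fun F hF hc => isStronglyClosed_of_H hP hF (h3 F hF hc)⟩

theorem relIndex_eq_pow [Finite G] [Fact p.Prime] {A B : Subgroup G} (hB : IsPGroup p B) :
    ∃ k, A.relIndex B = p ^ k := by
  obtain ⟨b, hb⟩ := hB.exists_card_eq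
  obtain ⟨k, -, hk⟩ := (Nat.dvd_prime_pow (Fact.out : p.Prime)).1 (hb ▸ relIndex_dvd_card A B)
  exact ⟨k, hk⟩

theorem AllSC.caseA [Finite G] [hp : Fact p.Prime] {P : Subgroup G} {e : ℕ} (h : AllSC p P e) {c : G} (hc : c ∈ P)
    (hce : p ^ e ≤ orderOf c) {Q Y Y0 : Subgroup G} (hQ : Q ≤ P) (hY : Y ≤ normalizer (Q : Set G)) (h0 : Y0 ≤ Y)
    (hk : ∀ k, ∀ f : Y →* (ZMod (p ^ k))ˣ, Y0.subgroupOf Y ≤ f.ker) (hcop : (Nat.card Y0).Coprime p) :
    Q ≤ centralizer (Y0 : Set G) := by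
  have hk' : ∀ A B : Subgroup G, B ≤ P → ∀ f : Y →* (ZMod (A.relIndex B))ˣ, Y0.subgroupOf Y ≤ f.ker := by
    intro A B hB
    obtain ⟨k, hk'⟩ := relIndex_eq_pow (A := A) (h.pgrp.to_le hB)
    rw [hk']; exact hk k
  have hcyc : ∀ A : Subgroup G, A ≤ P → IsCyclic A → Y ≤ normalizer (A : Set G) → A ≤ centralizer (Y0 : Set G) := by
    intro A hA hAc hYA
    obtain ⟨a, ha⟩ := (Subgroup.isCyclic_iff_exists_zpowers_eq_top A).1 hAc
    rw [← commutator_eq_bot_iff_le_centralizer, eq_bot_iff]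
    exact commutator_le_of_cyclic_section (u := a) bot_le (by simp) (by simp) hYA (ha ▸ mem_zpowers a)
      (by rw [← ha]; exact le_sup_right) h0 (hk' _ _ hA)
  obtain ⟨C, -, hCc, hC⟩ := exists_between (A := ⊥) (h.pgrp.to_le (zpowers_le_of_mem hc)) bot_le (e := e)
    (by rw [card_bot]; exact Nat.one_le_pow _ _ hp.out.pos) (by rwa [Nat.card_zpowers])
  have hCP := hCc.trans (zpowers_le_of_mem hc)
  have hCs := h.sc C hCP (Or.inl hC)
  have hPC : P ≤ normalizer (C : Set G) := by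
    have := le_normalizer_inf_of_sc hCs le_rfl
    rw [inf_eq_left.2 hCP] at this
    exact le_normalizer.trans this
  have key : ∀ u ∈ Q, orderOf u ≤ p ^ e → u ∈ centralizer (Y0 : Set G) := by
    intro u hu hue
    have huP := zpowers_le_of_mem (hQ hu)
    obtain ⟨E, h1, h2, hE⟩ := exists_between (A := zpowers u) (B := C ⊔ zpowers u) (h.pgrp.to_le (sup_le hCP huP))
      le_sup_right (e := e) (by rwa [Nat.card_zpowers]) (hC ▸ card_le_of_le le_sup_left)
    have hEP := h2.trans (sup_le hCP huP)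
    have hEs := h.sc E hEP (Or.inl hE)
    have h3 := le_normalizer_inf_of_sc hEs hQ
    have h4 := Solv.le_normalizer_inf (le_normalizer_inf_of_sc hCs hQ) h3
    have h5 : ⁅E ⊓ Q, Y0⁆ ≤ (C ⊓ Q) ⊓ (E ⊓ Q) := by
      refine commutator_le_of_cyclic_section (u := u) inf_le_right (inf_le_right.trans (le_normalizer.trans h4))
        (hY.trans h4) (hY.trans h3) ⟨h1 (mem_zpowers u), hu⟩ (fun b hb => ?_) h0 (hk' _ _ (inf_le_left.trans hEP))
      obtain ⟨a, ha, i, e⟩ := (PGrp.mem_sup_zpowers (hPC (hQ hu))).1 (h2 hb.1)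
      have h6 : a ∈ E ⊓ Q := by
        have := mul_mem hb (inv_mem (zpow_mem (show u ∈ E ⊓ Q from ⟨h1 (mem_zpowers u), hu⟩) i))
        rwa [← e, mul_inv_cancel_right] at this
      rw [← e]
      exact mul_mem (mem_sup_left ⟨⟨ha, h6.2⟩, h6⟩) (mem_sup_right (zpow_mem (mem_zpowers u) i))
    have h6 : (C ⊓ Q) ⊓ (E ⊓ Q) ≤ P := inf_le_left.trans (inf_le_left.trans hCP)
    obtain ⟨k, hk⟩ := (h.pgrp.to_le h6).exists_card_eq
    exact Solv.le_centralizer_of_commutator_le (hk ▸ hcop.pow_right k)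
      (hcyc _ h6 (isCyclic_of_le (inf_le_left.trans (inf_le_left.trans hCc))) (hY.trans h4)) h5
      ⟨h1 (mem_zpowers u), hu⟩
  have hpe : p ≤ p ^ e := Nat.le_self_pow h.pos.ne' p
  by_cases h2 : p = 2
  · subst h2
    refine le_centralizer_of_pow_four (h.pgrp.to_le hQ) (h0.trans hY) hcop fun u hu h4 => ?_
    by_cases h5 : orderOf u ≤ 2 ^ e
    · exact key u hu h5
    obtain ⟨j, hj, ho⟩ := (Nat.dvd_prime_pow Nat.prime_two).1 (orderOf_dvd_of_pow_eq_one (show u ^ 2 ^ 2 = 1 from h4))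
    rw [ho, not_le, Nat.pow_lt_pow_iff_right (by norm_num)] at h5
    have h6 := h.pos
    obtain rfl : e = 1 := by omega
    obtain rfl : j = 2 := by omega
    have huP := zpowers_le_of_mem (hQ hu)
    have h7 := le_normalizer_inf_of_sc (h.sc _ huP (Or.inr ⟨rfl, by rw [Nat.card_zpowers, ho]; rfl⟩)) hQ
    rw [inf_eq_left.2 (zpowers_le_of_mem hu)] at h7
    exact hcyc _ huP inferInstance (hY.trans h7) (mem_zpowers u)
  · exact Transfer.le_centralizer_of_omega h2 (h.pgrp.to_le hQ) (h0.trans hY) hcop fun u hu h4 =>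
      key u hu ((Nat.le_of_dvd hp.out.pos (orderOf_dvd_of_pow_eq_one h4)).trans hpe)

theorem AllSC.caseB [Finite G] [hp : Fact p.Prime] {P : Subgroup G} {e : ℕ} (h : AllSC p P e)
    (hce : ∀ c ∈ P, orderOf c ≤ p ^ e) {Q Y Y0 : Subgroup G} (hQ : Q ≤ P) (hY : Y ≤ normalizer (Q : Set G))
    (h0 : Y0 ≤ Y) (hk : ∀ f : Y →* (ZMod p)ˣ, Y0.subgroupOf Y ≤ f.ker) :
    ⁅Q, Y0⁆ ≤ (frattini P).map P.subtype := by
  have hQ' : ⁅Q, Y0⁆ ≤ P := (Solv.commutator_le_of_le_normalizer (h0.trans hY)).trans hQ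
  intro x hx
  refine ⟨⟨x, hQ' hx⟩, Solv.mem_frattini_iff.2 fun M' hM' => ?_, rfl⟩
  have hi := PGrp.index_of_isCoatom h.pgrp hM'
  haveI := PGrp.normal_of_isCoatom h.pgrp hM'
  let M := M'.map P.subtype
  have hMP : M ≤ P := map_subtype_le _
  have hmem : ∀ y : P, (y : G) ∈ M ↔ y ∈ M' := fun y => mem_map_iff_mem P.subtype_injective
  have hMc : p ^ e ≤ Nat.card M := by
    obtain ⟨n, hn⟩ := h.pgrp.exists_card_eq
    have h1 := M'.card_mul_index
    have h2 := h.lt
    rw [hn, Nat.pow_lt_pow_iff_right hp.out.one_lt] at h2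
    obtain ⟨m, rfl⟩ : ∃ m, n = m + 1 := ⟨n - 1, by omega⟩
    rw [hi, hn, pow_succ] at h1
    rw [card_map_of_injective P.subtype_injective, Nat.eq_of_mul_eq_mul_right hp.out.pos h1]
    exact Nat.pow_le_pow_right hp.out.pos (by omega)
  have hMs : IsStronglyClosed M P := ⟨hMP, fun y hy g hg => by
    obtain ⟨E, h1, h2, hE⟩ := exists_between (h.pgrp.to_le hMP) (zpowers_le_of_mem hy) (e := e)
      (by rw [Nat.card_zpowers]; exact hce y (hMP hy)) hMc
    exact h2 ((h.sc E (h2.trans hMP) (Or.inl hE)).2 y (h1 (mem_zpowers y)) g hg)⟩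
  rw [← hmem]
  by_cases hQM : Q ≤ M
  · exact hQM (Solv.commutator_le_of_le_normalizer (h0.trans hY) hx)
  obtain ⟨u, hu, huM⟩ := SetLike.not_le_iff_exists.1 hQM
  have h3 := le_normalizer_inf_of_sc hMs hQ
  have h4 : Q = M ⊓ Q ⊔ zpowers u := by
    refine le_antisymm (fun b hb => ?_) (sup_le inf_le_right (zpowers_le_of_mem hu))
    have h5 := PGrp.sup_zpowers_eq_top hi (x := ⟨u, hQ hu⟩) (fun h => huM ((hmem _).2 h))
    obtain ⟨a, ha, i, e⟩ := (PGrp.mem_sup_zpowers (le_normalizer_of_normal (mem_top _))).1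
      (h5 ▸ mem_top (⟨b, hQ hb⟩ : P))
    have e' : (a : G) * u ^ i = b := congrArg Subtype.val e
    have h6 : (a : G) ∈ Q := by
      have := mul_mem hb (inv_mem (zpow_mem hu i))
      rwa [← e', mul_inv_cancel_right] at this
    rw [← e']
    exact mul_mem (mem_sup_left ⟨(hmem a).2 ha, h6⟩) (mem_sup_right (zpow_mem (mem_zpowers u) i))
  have h5 : (M ⊓ Q).relIndex Q = p := by
    conv_lhs => rw [h4]; arg 1; rw [← h4]
    exact PGrp.relIndex_sup_zpowers hp.out (h3 (le_normalizer hu)) (fun h => huM h.1)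
      ⟨(hmem (⟨u, hQ hu⟩ ^ p)).2 (PGrp.pow_mem_of_index_eq hi _), pow_mem hu p⟩
  exact (commutator_le_of_cyclic_section (u := u) inf_le_right (le_normalizer.trans h3) (hY.trans h3) hY hu h4.le h0
    (by rw [h5]; exact hk) hx).1

theorem card_units_pow_dvd [hp : Fact p.Prime] (k : ℕ) : Nat.card (ZMod (p ^ k))ˣ ∣ p ^ k * (p - 1) := by
  haveI : NeZero (p ^ k) := ⟨pow_ne_zero k hp.out.ne_zero⟩
  rw [Nat.card_eq_fintype_card, ZMod.card_units_eq_totient]
  rcases k with _ | k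
  · simp
  · rw [Nat.totient_prime_pow_succ hp.out]
    exact Nat.mul_dvd_mul_right (pow_dvd_pow p k.le_succ) _

theorem le_ker_of_coprime {H M : Type*} [Group H] [Group M] (f : H →* M) {K : Subgroup H}
    (h : (Nat.card K).Coprime (Nat.card M)) : K ≤ f.ker := fun y hy =>
  orderOf_eq_one_iff.1 (Nat.eq_one_of_dvd_coprimes h
    ((orderOf_map_dvd f y).trans (K.orderOf_dvd_natCard hy)) (orderOf_dvd_natCard _))

theorem coprime_sub_one [Finite G] [hp : Fact p.Prime] (hmin : ∀ q : ℕ, q.Prime → q ∣ Nat.card G → p ≤ q) :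
    (Nat.card G).Coprime (p - 1) := Nat.coprime_of_dvd fun q hq h1 h2 => by
  have := hmin q hq h1
  have h3 := hp.out.two_le
  have := Nat.le_of_dvd (by omega) h2
  omega

/-- Asaad's criterion: `p` the smallest prime divisor, all subgroups of a fixed intermediate order strongly
closed. -/
theorem hasNormalPComplement_of_allSC [Finite G] [hp : Fact p.Prime]
    (hmin : ∀ q : ℕ, q.Prime → q ∣ Nat.card G → p ≤ q) (P : Sylow p G) {e : ℕ} (h : AllSC p (P : Subgroup G) e) :
    HasNormalPComplement p G := by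
  have hc := coprime_sub_one hmin
  by_cases hA : ∃ c ∈ (P : Subgroup G), p ^ e ≤ orderOf c
  · obtain ⟨c, hc1, hc2⟩ := hA
    refine (Transfer.hasNormalPComplement_iff_normalizer_centralizer P).2 fun Q hQ g hg hgp => ?_
    have h1 := h.caseA hc1 hc2 hQ (zpowers_le_of_mem hg) le_rfl (fun k f => le_ker_of_coprime f ?_)
      (by rwa [Nat.card_zpowers])
    · exact le_centralizer_iff.1 h1 (mem_zpowers g)
    · rw [subgroupOf_self, card_top, Nat.card_zpowers]
      exact Nat.Coprime.coprime_dvd_right (card_units_pow_dvd k)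
        ((hgp.pow_right k).mul_right (hc.coprime_dvd_left (orderOf_dvd_natCard g)))
  · push Not at hA
    refine hasNormalPComplement_of_fusion_frattini P fun x hx g hg => ?_
    refine Transfer.alperin_induction_elem P (fun a b => a⁻¹ * b ∈ (frattini P).map (P : Subgroup G).subtype)
      (fun a b c _ _ _ h1 h2 => by simpa [mul_assoc] using mul_mem h1 h2) (fun D y hD hy _ a ha => ?_) x g hx hg
    refine h.caseB (fun c hc => (hA c hc).le) hD.1 (zpowers_le_of_mem hy) le_rfl (fun f => le_ker_of_coprime f ?_)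
      (Transfer.inv_mul_conj_mem_commutator ha (mem_zpowers y))
    rw [subgroupOf_self, card_top, Nat.card_zpowers, Nat.card_eq_fintype_card, ZMod.card_units]
    exact hc.coprime_dvd_left (orderOf_dvd_natCard y)

/-- The smallest normal subgroup whose quotient is abelian of exponent dividing `p - 1`. -/
def kerSc (p : ℕ) (G : Type*) [Group G] : Subgroup G := commutator G ⊔ closure (Set.range fun g : G => g ^ (p - 1))

instance kerSc_normal : (kerSc p G).Normal := ⟨fun x hx g => by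
  have := mul_mem (mem_sup_left (commutator_mem_commutator (mem_top g) (mem_top x)) : ⁅g, x⁆ ∈ kerSc p G) hx
  rwa [commutatorElement_def, inv_mul_cancel_right] at this⟩

theorem map_kerSc {H : Type*} [Group H] (f : G →* H) (hf : Function.Surjective f) :
    (kerSc p G).map f = kerSc p H := by
  rw [kerSc, kerSc, Subgroup.map_sup, commutator_def, map_commutator, map_top_of_surjective f hf, MonoidHom.map_closure,
    ← commutator_def]
  congr 2
  ext y
  constructor
  · rintro ⟨_, ⟨g, rfl⟩, rfl⟩; exact ⟨f g, (map_pow f g _).symm⟩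
  · rintro ⟨g, rfl⟩
    obtain ⟨x, rfl⟩ := hf g
    exact ⟨_, ⟨x, rfl⟩, map_pow f x _⟩

theorem ss_aux [hp : Fact p.Prime] (n : ℕ) : ∀ (G : Type u) [Group G] [Finite G] (P : Subgroup G) [P.Normal],
    Nat.card P = n → IsPGroup p P → IsSupersolvable (G ⧸ P) →
    (∀ y ∈ kerSc p G, ∃ k, y ^ p ^ k ∈ centralizer (P : Set G)) → IsSupersolvable G := by
  induction n using Nat.strong_induction_on with
  | _ n ih =>
  intro G _ _ P _ hn hP hq h
  by_cases h0 : P = ⊥
  · subst h0
    exact SolvStr.isSupersolvable_of_mulEquiv QuotientGroup.quotientBot hq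
  obtain ⟨N, hN, hN0, hNP, hmin⟩ := Solv.exists_minimal_normal_le P h0
  have hNp := hP.to_le hNP
  have hK : kerSc p G ≤ centralizer (N : Set G) := by
    let f : kerSc p G →* MulAut N := MulAut.conjNormal.comp (kerSc p G).subtype
    have hf : IsPGroup p f.range := by
      rintro ⟨_, y, rfl⟩
      obtain ⟨k, hk⟩ := h y y.2
      refine ⟨k, Subtype.ext (MulEquiv.ext fun x => Subtype.ext ?_)⟩
      rw [coe_pow, ← map_pow]
      change (y : G) ^ p ^ k * x * ((y : G) ^ p ^ k)⁻¹ = x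
      rw [← hk x (hNP x.2), mul_inv_cancel_right]
    obtain ⟨b, hb, hb1⟩ := hf.exists_fixed_point_of_prime_dvd_card_of_fixed_point N
      (Solv.dvd_card_of_isPGroup hNp hN0) (a := 1) fun g => smul_one g
    rcases hmin (N ⊓ centralizer (kerSc p G : Set G)) inferInstance inf_le_left with h1 | h1
    · refine absurd (Subtype.ext ?_) hb1
      refine (mem_bot.1 (h1 ▸ (⟨b.2, fun y hy => ?_⟩ : (b : G) ∈ N ⊓ centralizer (kerSc p G : Set G)))).symm
      have := congrArg Subtype.val (hb ⟨f ⟨y, hy⟩, _, rfl⟩)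
      change y * b * y⁻¹ = b at this
      exact mul_inv_eq_iff_eq_mul.1 this
    · exact le_centralizer_iff.1 (inf_eq_left.1 h1)
  haveI := SolvStr.isCyclic_of_minimal_normal_of_pow_mem_centralizer hNp hmin (le_sup_left.trans hK)
    fun g => hK (mem_sup_right (subset_closure ⟨g, rfl⟩))
  refine SolvStr.isSupersolvable_of_isCyclic_of_quotient N (ih _ ?_ (G ⧸ N) (P.map (QuotientGroup.mk' N)) rfl
    (hP.map _) (SolvStr.isSupersolvable_of_mulEquiv (QuotientGroup.quotientQuotientEquivQuotient N P hNP).symm hq) ?_)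
  · have h1 := Solv.card_map_mul_card_inf_ker (QuotientGroup.mk' N) P
    rw [QuotientGroup.ker_mk', inf_eq_left.2 hNP, hn] at h1
    have h2 := (one_lt_card_iff_ne_bot N).2 hN0
    have h3 : 0 < Nat.card (P.map (QuotientGroup.mk' N)) := Nat.card_pos
    nlinarith
  · rw [← map_kerSc (QuotientGroup.mk' N) (QuotientGroup.mk'_surjective N)]
    rintro _ ⟨y, hy, rfl⟩
    obtain ⟨k, hk⟩ := h y hy
    refine ⟨k, ?_⟩
    rintro _ ⟨x, hx, rfl⟩
    rw [← map_pow, ← map_mul, ← map_mul, hk x hx]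

theorem isSupersolvable_of_pow_mem_centralizer [Finite G] [Fact p.Prime] (P : Subgroup G) [P.Normal]
    (hP : IsPGroup p P) (hq : IsSupersolvable (G ⧸ P))
    (h : ∀ y ∈ kerSc p G, (orderOf y).Coprime p → y ∈ centralizer (P : Set G)) : IsSupersolvable G :=
  ss_aux _ G P rfl hP hq fun y hy => by
    obtain ⟨k, hk⟩ := Transfer.exists_coprime_orderOf_pow (p := p) y (orderOf_pos y).ne'
    exact ⟨k, h _ (pow_mem hy _) hk⟩

theorem isSupersolvable_of_allSC [Finite G] [hp : Fact p.Prime] (P : Subgroup G) [P.Normal] {e : ℕ}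
    (h : AllSC p P e) (hq : IsSupersolvable (G ⧸ P)) : IsSupersolvable G := by
  refine isSupersolvable_of_pow_mem_centralizer P h.pgrp hq fun y hy hyp => ?_
  have hk : ∀ k, ∀ f : (⊤ : Subgroup G) →* (ZMod (p ^ k))ˣ, (zpowers y).subgroupOf ⊤ ≤ f.ker := by
    intro k f
    let g : G →* (ZMod (p ^ k))ˣ := f.comp topEquiv.symm.toMonoidHom
    have h1 : kerSc p G ≤ ((powMonoidHom (p ^ k)).comp g).ker := by
      refine sup_le (Abelianization.commutator_subset_ker _) ((closure_le _).2 ?_)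
      rintro _ ⟨x, rfl⟩
      change g (x ^ (p - 1)) ^ p ^ k = 1
      rw [map_pow, ← pow_mul, mul_comm]
      exact orderOf_dvd_iff_pow_eq_one.1 ((_root_.orderOf_dvd_natCard _).trans (card_units_pow_dvd k))
    have h2 : g y = 1 := orderOf_eq_one_iff.1 (Nat.eq_one_of_dvd_coprimes (hyp.pow_right k)
      (orderOf_map_dvd g y) (orderOf_dvd_of_pow_eq_one (h1 hy)))
    intro z hz
    exact zpowers_le_of_mem (show y ∈ g.ker from h2) hz
  have hN : (⊤ : Subgroup G) ≤ normalizer (P : Set G) := le_normalizer_of_normal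
  by_cases hA : ∃ c ∈ P, p ^ e ≤ orderOf c
  · obtain ⟨c, hc1, hc2⟩ := hA
    exact le_centralizer_iff.1 (h.caseA hc1 hc2 le_rfl hN le_top hk (by rwa [Nat.card_zpowers])) (mem_zpowers y)
  · push Not at hA
    have h1 := h.caseB (fun c hc => (hA c hc).le) le_rfl hN le_top (by have := hk 1; rwa [pow_one] at this)
    obtain ⟨k, hk⟩ := (h.pgrp.to_subgroup (frattini P)).exists_card_eq
    exact Solv.le_centralizer_of_commutator_le_frattini (le_top.trans hN)
      (by rw [hk, Nat.card_zpowers]; exact hyp.pow_right k) h1 (mem_zpowers y)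

end Cfsg.Agent.FTC
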